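import Groth.Agent.Variety2.Normal
import Groth.Prelude.Def_Pi1

/-! Rings of global sections of Noetherian normal schemes are locally normal domains. -/

universe u

open CategoryTheory AlgebraicGeometry TopologicalSpace Opposite

namespace Groth.GeomNormalDescent

theorem prime_normal_of_cover {W : Scheme.{u}} [IsNoetherian W]
    (hW : ∀ x : W, IsDomain (W.presheaf.stalk x) ∧ IsIntegrallyClosed (W.presheaf.stalk x))
    (P : Ideal Γ(W, ⊤)) [P.IsPrime] :
    IsDomain (Localization.AtPrime P) ∧ IsIntegrallyClosed (Localization.AtPrime P) := by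
  classical
  have hdom : ∀ x : W, IsDomain (W.presheaf.stalk x) := fun x => (hW x).1
  have hfin : (irreducibleComponents W).Finite := NoetherianSpace.finite_irreducibleComponents
  let C : irreducibleComponents W → W.Opens := fun i =>
    ⟨i.1, Groth.Variety2.isOpen_irreducibleComponents hdom i.2⟩
  have hCc : ∀ i, IsClosed (C i : Set W) := fun i => isClosed_of_mem_irreducibleComponents _ i.2
  choose e he using fun i => Groth.Variety2.exists_basicOpen_eq_of_isClopen (C i) (hCc i)
  haveI : Fintype (irreducibleComponents W) := hfin.fintype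
  have huniq : ∀ (x : W) i j, x ∈ C i → x ∈ C j → i = j := by
    intro x i j hi hj
    apply Subtype.ext
    have key : ∀ a b : irreducibleComponents W, x ∈ C a → x ∈ C b → (a : Set W) ⊆ b := fun a b ha hb => by
      refine (subset_closure_inter_of_isPreirreducible_of_isOpen a.2.1.2 (C b).2 ⟨x, ha, hb⟩).trans ?_
      exact closure_minimal Set.inter_subset_right (hCc b)
    exact (key i j hi hj).antisymm (key j i hj hi)
  have hsum : IsUnit (∑ i, e i) := by
    refine RingedSpace.isUnit_of_isUnit_germ W.toLocallyRingedSpace.toRingedSpace ⊤ _ fun x hx => ?_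
    let i₀ : irreducibleComponents W :=
      ⟨irreducibleComponent x, irreducibleComponent_mem_irreducibleComponents x⟩
    have h0 : x ∈ C i₀ := mem_irreducibleComponent
    show IsUnit (W.presheaf.germ ⊤ x hx (∑ i, e i))
    rw [map_sum, ← Finset.add_sum_erase _ _ (Finset.mem_univ i₀)]
    have h1 : IsUnit (W.presheaf.germ ⊤ x hx (e i₀)) := by
      rw [← Scheme.mem_basicOpen W (e i₀) x hx, he]; exact h0
    have h2 : (∑ i ∈ Finset.univ.erase i₀, W.presheaf.germ ⊤ x hx (e i)) ∈
        IsLocalRing.maximalIdeal (W.presheaf.stalk x) := by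
      refine Ideal.sum_mem _ fun i hi => ?_
      rw [IsLocalRing.mem_maximalIdeal, mem_nonunits_iff, ← Scheme.mem_basicOpen W (e i) x hx, he]
      exact fun hxi => (Finset.mem_erase.1 hi).1 (huniq x i i₀ hxi h0)
    by_contra hu
    have h3 := (IsLocalRing.maximalIdeal (W.presheaf.stalk x)).sub_mem
      ((IsLocalRing.mem_maximalIdeal _).2 hu) h2
    rw [add_sub_cancel_right] at h3
    exact (IsLocalRing.mem_maximalIdeal _).1 h3 h1
  obtain ⟨i, hi⟩ : ∃ i, e i ∉ P := by
    by_contra hc
    simp only [not_exists, not_not] at hc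
    exact Ideal.IsPrime.ne_top ‹_› (P.eq_top_of_isUnit_mem (P.sum_mem fun i _ => hc i) hsum)
  -- the component
  let U : W.Opens := W.basicOpen (e i)
  have hU : (U : Set W) = i.1 := congrArg SetLike.coe (he i)
  haveI : IrreducibleSpace (U : Scheme) := Subtype.irreducibleSpace (show IsIrreducible (U : Set W) from hU ▸ i.2.1)
  haveI : ∀ x : (U : Scheme), _root_.IsReduced ((U : Scheme).presheaf.stalk x) := fun x => by
    have := hdom x.1
    exact isReduced_of_injective (U.stalkIso x).hom.hom (U.stalkIso x).commRingCatIsoToRingEquiv.injective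
  haveI : AlgebraicGeometry.IsReduced (U : Scheme) := isReduced_of_isReduced_stalk _
  haveI : IsIntegral (U : Scheme) := isIntegral_of_irreducibleSpace_of_isReduced _
  haveI : Nonempty (⊤ : (U : Scheme).Opens) := ⟨⟨Classical.arbitrary _, trivial⟩⟩
  haveI hS1 : IsIntegrallyClosed Γ(W, U) := by
    have hcl : ∀ x : (U : Scheme), IsIntegrallyClosed ((U : Scheme).presheaf.stalk x) := fun x => by
      have := (hW x.1).2
      exact IsIntegrallyClosed.of_equiv (U.stalkIso x).commRingCatIsoToRingEquiv.symm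
    have := Groth.Variety2.isIntegrallyClosed_Γ hcl ⊤
    exact IsIntegrallyClosed.of_equiv U.topIso.commRingCatIsoToRingEquiv
  haveI hS2 : IsDomain Γ(W, U) := U.topIso.commRingCatIsoToRingEquiv.toMulEquiv.symm.isDomain Γ((U : Scheme), ⊤)
  letI : Algebra Γ(W, ⊤) Γ(W, U) := (W.presheaf.map (homOfLE (W.basicOpen_le (e i))).op).hom.toAlgebra
  haveI : IsLocalization.Away (e i) Γ(W, U) :=
    isLocalization_basicOpen_of_qcqs CompactSpace.isCompact_univ
      (IsQuasiSeparated.of_quasiSeparatedSpace _) (e i)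
  -- localise further
  have hdisj : Disjoint (Submonoid.powers (e i) : Set Γ(W, ⊤)) (P : Set Γ(W, ⊤)) := by
    rw [Set.disjoint_left]
    rintro _ ⟨n, rfl⟩ hn
    exact hi (Ideal.IsPrime.mem_of_pow_mem ‹_› n hn)
  let Q : Ideal Γ(W, U) := P.map (algebraMap Γ(W, ⊤) Γ(W, U))
  haveI hQ : Q.IsPrime := IsLocalization.isPrime_of_isPrime_disjoint (Submonoid.powers (e i)) _ P ‹_› hdisj
  have hQP : Q.comap (algebraMap Γ(W, ⊤) Γ(W, U)) = P :=
    IsLocalization.comap_map_of_isPrime_disjoint (Submonoid.powers (e i)) _ ‹P.IsPrime› hdisj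
  let T := Localization.AtPrime Q
  have hT := IsLocalization.isLocalization_isLocalization_atPrime_isLocalization
    (Submonoid.powers (e i)) T Q
  simp_rw [hQP] at hT
  haveI : IsDomain T := IsLocalization.isDomain_localization Q.primeCompl_le_nonZeroDivisors
  haveI : IsIntegrallyClosed T := isIntegrallyClosed_of_isLocalization T Q.primeCompl
    Q.primeCompl_le_nonZeroDivisors
  let ε : T ≃+* Localization.AtPrime P :=
    (IsLocalization.algEquiv P.primeCompl T (Localization.AtPrime P)).toRingEquiv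
  exact ⟨ε.toMulEquiv.symm.isDomain T, IsIntegrallyClosed.of_equiv ε⟩

theorem transfer {A B : Type u} [CommRing A] [CommRing B] (φ : A ≃+* B) (p : Ideal A) [p.IsPrime]
    (h : ∀ (P : Ideal B) [P.IsPrime],
      IsDomain (Localization.AtPrime P) ∧ IsIntegrallyClosed (Localization.AtPrime P))
    (S : Type u) [CommRing S] [Algebra A S] [IsLocalization.AtPrime S p] :
    IsDomain S ∧ IsIntegrallyClosed S := by
  let P : Ideal B := p.comap φ.symm.toRingHom
  haveI : P.IsPrime := Ideal.comap_isPrime _ _
  have H : p.primeCompl.map φ.toMonoidHom = P.primeCompl := by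
    ext b
    constructor
    · rintro ⟨a, ha, rfl⟩
      show φ.symm (φ a) ∉ p
      simpa using ha
    · intro hb
      exact ⟨φ.symm b, hb, φ.apply_symm_apply b⟩
  obtain ⟨h1, h2⟩ := h P
  let ε : S ≃+* Localization.AtPrime P := IsLocalization.ringEquivOfRingEquiv S (Localization.AtPrime P) φ H
  exact ⟨ε.toMulEquiv.isDomain _, IsIntegrallyClosed.of_equiv ε.symm⟩

/-- If `f : X ⟶ Y` is quasi-compact with `X` Noetherian normal, and `O_Y → f_* O_X` is bijective on
affine opens forming a cover, then `Y` is normal. -/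
theorem isNormalScheme_of_app_iso {X Y : Scheme.{u}} [IsNoetherian X] (hX : Pi1.IsNormalScheme X) (f : X ⟶ Y)
    (hY : ∀ y : Y, ∃ V : Y.Opens, IsAffineOpen V ∧ y ∈ V ∧ IsIso (f.app V)) :
    Pi1.IsNormalScheme Y := by
  intro y
  obtain ⟨V, hV, hy, hiso⟩ := hY y
  let W : X.Opens := f ⁻¹ᵁ V
  haveI : CompactSpace (W : Scheme) := inferInstanceAs (CompactSpace ((W : Set X) : Type u))
  haveI : IsNoetherian (W : Scheme) := AlgebraicGeometry.IsNoetherian.mk
  have hW : ∀ x : (W : Scheme), IsDomain ((W : Scheme).presheaf.stalk x) ∧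
      IsIntegrallyClosed ((W : Scheme).presheaf.stalk x) := fun x => by
    obtain ⟨h1, h2⟩ := hX x.1
    exact ⟨(W.stalkIso x).commRingCatIsoToRingEquiv.toMulEquiv.isDomain _,
      IsIntegrallyClosed.of_equiv (W.stalkIso x).commRingCatIsoToRingEquiv.symm⟩
  let φ : Γ(Y, V) ≃+* Γ((W : Scheme), ⊤) :=
    ((asIso (f.app V)).trans W.topIso.symm).commRingCatIsoToRingEquiv
  letI := Y.presheaf.algebra_section_stalk ⟨y, hy⟩
  haveI := hV.isLocalization_stalk ⟨y, hy⟩
  exact transfer φ (hV.primeIdealOf ⟨y, hy⟩).asIdeal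
    (fun P hP => prime_normal_of_cover hW P) (Y.presheaf.stalk y)

end Groth.GeomNormalDescent
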